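import Groth.Agent.Lib.Lead.Baer.LocInj
import Groth.Agent.Lib.Lead.QC.TensorRestrict
import Groth.Agent.Lib.Lead.MS.TensorColim
import Groth.Agent.Lib.Lead.KT.LocalExt

/-! # The tensor product of an injective module with a finite locally free module is injective. -/

universe u
open CategoryTheory Limits AlgebraicGeometry TopologicalSpace Opposite

namespace Groth.Agent.LD.Baer

variable {X : Scheme.{u}}

theorem injective_tensor_of_isFinLocFree (I E : X.Modules) [Injective I]
    (hE : FlatMod.IsFinLocFree E) : Injective (CohB1.tensorMod E I) := by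
  apply injective_of_locally_injective
  intro x
  obtain ⟨U, n, hxU, ⟨e⟩⟩ := hE x
  refine ⟨U, hxU, ?_⟩
  let IU : (U : Scheme.{u}).Modules := I.restrict U.ι
  haveI : Injective IU := Functor.injective_obj (Scheme.Modules.restrictFunctor U.ι) I
  let T : (U : Scheme.{u}).Modules ⥤ (U : Scheme.{u}).Modules :=
    (ModSite.tensorBi (U : Scheme.{u}).sheaf).flip.obj IU
  have e1 : (CohB1.tensorMod E I).restrict U.ι ≅ T.obj (E.restrict U.ι) :=
    (QC.restrictTensorIso U.ι E I).symm
  have e2 : T.obj (E.restrict U.ι) ≅ T.obj (FlatMod.freeMod (U : Scheme.{u}) n) := T.mapIso e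
  haveI : PreservesColimitsOfSize.{u, u} T :=
    inferInstanceAs (PreservesColimitsOfSize.{u, u}
      ((ModSite.tensorBi (U : Scheme.{u}).sheaf).flip.obj IU))
  haveI : PreservesColimitsOfShape (Discrete (Fin n)) T := by
    haveI : PreservesColimitsOfSize.{0, 0} T := preservesColimitsOfSize_shrink.{0, u, 0, u} T
    infer_instance
  have e3 : T.obj (FlatMod.freeMod (U : Scheme.{u}) n) ≅
      ∐ fun _ : Fin n => T.obj (QC.unitMod (U : Scheme.{u})) :=
    PreservesCoproduct.iso T (fun _ : Fin n => QC.unitMod (U : Scheme.{u}))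
  have e4 : (∐ fun _ : Fin n => T.obj (QC.unitMod (U : Scheme.{u}))) ≅ ∐ fun _ : Fin n => IU :=
    Sigma.mapIso (fun _ => KT.tensorUnitIso (U : Scheme.{u}).sheaf IU)
  haveI : HasFiniteBiproducts (U : Scheme.{u}).Modules := Abelian.hasFiniteBiproducts
  haveI : HasBiproduct (fun _ : Fin n => IU) := HasBiproductsOfShape.has_biproduct _
  haveI : Injective (∐ fun _ : Fin n => IU) :=
    Injective.of_iso (biproduct.isoCoproduct (fun _ : Fin n => IU)) inferInstance
  exact Injective.of_iso (e1 ≪≫ e2 ≪≫ e3 ≪≫ e4).symm inferInstance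

end Groth.Agent.LD.Baer
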