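import Groth.Agent.Lib.Lead.Baer.Gen

/-! # Baer criterion with respect to a detecting family of objects. -/

universe w v u t

namespace Groth.Agent.LD.Baer

open CategoryTheory Category Limits ZeroObject MorphismProperty

variable {C : Type u} [Category.{v} C] [Abelian C] {ι : Type t} (G : ι → C)

/-- the inclusions of the subobjects of the members of the family. -/
def famW : MorphismProperty C :=
  fun _ _ f => ∃ i, IsGrothendieckAbelian.generatingMonomorphisms (G i) f

set_option backward.isDefEq.respectTransparency false in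
theorem gen_famW [Nonempty ι]
    (hdet : ∀ {X Y : C} (p : X ⟶ Y) [Mono p],
      (∀ (i : ι) (f : G i ⟶ Y), ∃ a : G i ⟶ X, a ≫ p = f) → IsIso p) :
    Gen (famW G) where
  iso_le := by
    obtain ⟨i₀⟩ := ‹Nonempty ι›
    exact MorphismProperty.isomorphisms_le_pushouts _
      (fun _ ↦ ⟨_, _, _, ⟨i₀, ⟨⊤⟩⟩, 0, inferInstance⟩)
  exists_pushouts := by
    intro X Y p _ hp
    have : ∃ (i : ι) (f : G i ⟶ Y), ∀ a : G i ⟶ X, a ≫ p ≠ f := by
      by_contra hcon
      push Not at hcon
      exact hp (hdet p hcon)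
    obtain ⟨i, f, hf⟩ := this
    refine ⟨pushout (pullback.fst p f) (pullback.snd p f), pushout.inl _ _,
      pushout.desc p f pullback.condition,
      ⟨_, _, _, (Subobject.underlyingIso _).hom ≫ pullback.fst _ _,
      pushout.inr _ _, ⟨i, ⟨Subobject.mk (pullback.snd p f)⟩⟩,
      (IsPushout.of_hasPushout (pullback.fst p f) (pullback.snd p f)).of_iso
        ((Subobject.underlyingIso _).symm) (Iso.refl _) (Iso.refl _)
        (Iso.refl _) (by simp) (by simp) (by simp) (by simp)⟩, ?_, ?_, by simp⟩
    · intro h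
      refine hf (pushout.inr _ _ ≫ inv (pushout.inl (pullback.fst p f) (pullback.snd p f))) ?_
      have h1 : pushout.inl (pullback.fst p f) (pullback.snd p f) ≫
          pushout.desc p f pullback.condition = p := by simp
      rw [assoc]
      have h2 : inv (pushout.inl (pullback.fst p f) (pullback.snd p f)) ≫ p =
          pushout.desc p f pullback.condition := by
        rw [IsIso.inv_comp_eq, h1]
      rw [h2]
      simp
    · exact (IsPushout.of_hasPushout _ _).mono_of_isPullback_of_mono
        (IsPullback.of_hasPullback p f) _ (by simp) (by simp)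

/-- **Baer criterion for a detecting family.** -/
theorem injective_of_extends [IsGrothendieckAbelian.{w} C] [Nonempty ι]
    (hdet : ∀ {X Y : C} (p : X ⟶ Y) [Mono p],
      (∀ (i : ι) (f : G i ⟶ Y), ∃ a : G i ⟶ X, a ≫ p = f) → IsIso p)
    (I : C)
    (hI : ∀ (i : ι) (S : C) (m : S ⟶ G i) [Mono m] (φ : S ⟶ I), ∃ ψ : G i ⟶ I, m ≫ ψ = φ) :
    Injective I := by
  rw [injective_iff_rlp_monomorphisms_zero]
  refine (gen_famW G hdet).rlp_le _ ?_
  rintro A B f ⟨i, ⟨S⟩⟩
  constructor
  intro t b sq
  obtain ⟨ψ, hψ⟩ := hI i _ S.arrow t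
  exact ⟨⟨{ l := ψ, fac_left := hψ, fac_right := (isZero_zero C).eq_of_tgt _ _ }⟩⟩

end Groth.Agent.LD.Baer
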