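import Groth.Agent.Lib.Lead.Baer.AdjExt
import Groth.Agent.Lib.Lead.Baer.Family
import Groth.Agent.Lib.Lead.QCQS.Flasque
import Groth.Agent.Lib.Lead.QC.EpiLocal
import Groth.Agent.Lib.Lead.QC.SuppPullback

/-! # Injectivity of `𝒪_X`-modules is local. -/

universe u
open CategoryTheory Limits AlgebraicGeometry TopologicalSpace Opposite

namespace Groth.Agent.LD.Baer

variable {X : Scheme.{u}}

lemma preservesFiniteLimits_ezS (U : X.Opens) : PreservesFiniteLimits (QCQS.ezS U) := by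
  unfold QCQS.ezS
  have h2 : PreservesFiniteLimits (EZ.ezModSh X.ringCatSheaf U) :=
    EZ.preservesFiniteLimits_of_adj (EZ.ezModShAdj X.ringCatSheaf U)
  haveI : PreservesLimitsOfSize.{0, 0} (Scheme.Modules.overEquiv U).inverse :=
    (Scheme.Modules.overEquiv U).toAdjunction.rightAdjoint_preservesLimits
  have h1 : PreservesFiniteLimits (Scheme.Modules.overEquiv U).inverse :=
    PreservesLimitsOfSize.preservesFiniteLimits.{0, 0} _
  exact @comp_preservesFiniteLimits _ _ _ _ _ _ _ _ h1 h2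

/-- the generators `j_! j'_! 𝒪`. -/
noncomputable abbrev gen (U : X.Opens) (V : U.toScheme.Opens) : X.Modules :=
  (QCQS.ezS U).obj ((QCQS.ezS V).obj (QC.unitMod V.toScheme))

lemma image_image_top (U W : X.Opens) : U.ι ''ᵁ ((U.ι ⁻¹ᵁ W).ι ''ᵁ ⊤) = U ⊓ W := by
  simp [Scheme.Hom.image_preimage_eq_opensRange_inf]

/-- a monomorphism against which all morphisms from the generators over a cover lift is an
isomorphism. -/
lemma isIso_of_lifts (𝒰 : Set X.Opens) (h𝒰 : ∀ x : X, ∃ U ∈ 𝒰, x ∈ U)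
    {A B : X.Modules} (p : A ⟶ B) [Mono p]
    (hp : ∀ (U : X.Opens) (_ : U ∈ 𝒰) (V : U.toScheme.Opens) (f : gen U V ⟶ B),
      ∃ a : gen U V ⟶ A, a ≫ p = f) : IsIso p := by
  haveI : Epi p := by
    apply QC.epi_of_local_lift
    intro W t x hxW
    obtain ⟨U, hU, hxU⟩ := h𝒰 x
    let V : U.toScheme.Opens := U.ι ⁻¹ᵁ W
    have hle : U.ι ''ᵁ (V.ι ''ᵁ ⊤) ≤ W := by
      rw [image_image_top]; exact inf_le_right
    let t' : Γ((B.restrict U.ι).restrict V.ι, ⊤) := B.presheaf.map (homOfLE hle).op t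
    let f₀ := QC.homOfSection ((B.restrict U.ι).restrict V.ι) t'
    let f₁ := ((QCQS.ezSAdj V).homEquiv _ _).symm f₀
    let f := ((QCQS.ezSAdj U).homEquiv _ _).symm f₁
    obtain ⟨a, ha⟩ := hp U hU V f
    let a₁ := (QCQS.ezSAdj U).homEquiv _ _ a
    let a₀ := (QCQS.ezSAdj V).homEquiv _ _ a₁
    have h1 : a₁ ≫ (Scheme.Modules.restrictFunctor U.ι).map p = f₁ := by
      rw [← Adjunction.homEquiv_naturality_right, ha]
      exact Equiv.apply_symm_apply _ _
    have h0 : a₀ ≫ (Scheme.Modules.restrictFunctor V.ι).map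
        ((Scheme.Modules.restrictFunctor U.ι).map p) = f₀ := by
      rw [← Adjunction.homEquiv_naturality_right, h1]
      exact Equiv.apply_symm_apply _ _
    refine ⟨U.ι ''ᵁ (V.ι ''ᵁ ⊤), hle, ?_, QC.sectionOfHom a₀, ?_⟩
    · rw [image_image_top]; exact ⟨hxU, hxW⟩
    · have h2 := congrArg QC.sectionOfHom h0
      rw [QC.sectionOfHom_homOfSection] at h2
      exact h2
  exact isIso_of_mono_of_epi p

/-- **injectivity is local**: an `𝒪_X`-module whose restrictions to the members of an open cover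
are injective is injective. -/
theorem injective_of_locally_injective (F : X.Modules)
    (hF : ∀ x : X, ∃ U : X.Opens, x ∈ U ∧ Injective ((Scheme.Modules.restrictFunctor U.ι).obj F)) :
    Injective F := by
  by_cases hX : Nonempty X
  swap
  · have hz : IsZero F := by
      rw [QC.isZero_iff_subsingleton_stalks]
      intro x
      exact absurd ⟨x⟩ hX
    exact hz.injective
  obtain ⟨x₀⟩ := hX
  obtain ⟨U₀, -, hU₀⟩ := hF x₀
  let 𝒰 : Set X.Opens := {U | Injective ((Scheme.Modules.restrictFunctor U.ι).obj F)}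
  let ι := Σ U : 𝒰, U.1.toScheme.Opens
  haveI : Nonempty ι := ⟨⟨⟨U₀, hU₀⟩, ⊤⟩⟩
  haveI : IsGrothendieckAbelian.{u} X.Modules :=
    Groth.Agent.H1.sheafOfModules_isGrothendieckAbelian
      (Opens.grothendieckTopology X) X.ringCatSheaf
  refine injective_of_extends.{u} (fun i : ι => gen i.1.1 i.2) ?_ F ?_
  · intro A B p _ hp
    refine isIso_of_lifts 𝒰 (fun x => ?_) p (fun U hU V f => hp ⟨⟨U, hU⟩, V⟩ f)
    obtain ⟨U, hxU, hU⟩ := hF x
    exact ⟨U, hU, hxU⟩
  · intro i S m hm φ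
    haveI : Injective ((Scheme.Modules.restrictFunctor i.1.1.ι).obj F) := i.1.2
    haveI := preservesFiniteLimits_ezS i.1.1
    exact @exists_extension _ _ _ _ _ _ _ _ (QCQS.ezSAdj i.1.1) _
      (QCQS.mono_ezSAdj_counit_app i.1.1) _ _ _ m hm φ _

end Groth.Agent.LD.Baer
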