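import Mathlib

/-! # Extending morphisms along subobjects of `L K` for an adjunction `L ⊣ R` with monic counit. -/

universe v v' u u'
open CategoryTheory Limits

namespace Groth.Agent.LD.Baer

variable {𝒜 : Type u} [Category.{v} 𝒜] [Abelian 𝒜] {ℬ : Type u'} [Category.{v'} ℬ] [Abelian ℬ]
  {L : ℬ ⥤ 𝒜} {R : 𝒜 ⥤ ℬ} (adj : L ⊣ R)

include adj in
/-- if all counits are monomorphisms, the counit at `L K` is an isomorphism. -/
lemma isIso_counit_app_obj (hε : ∀ M, Mono (adj.counit.app M)) (K : ℬ) :
    IsIso (adj.counit.app (L.obj K)) := by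
  haveI := hε (L.obj K)
  haveI : IsSplitEpi (adj.counit.app (L.obj K)) :=
    ⟨⟨L.map (adj.unit.app K), adj.left_triangle_components K⟩⟩
  exact isIso_of_mono_of_isSplitEpi _

include adj in
/-- if all counits are monomorphisms and `L` is left exact, the counit at a subobject of `L K`
is a split epimorphism. -/
lemma isSplitEpi_counit_of_mono [PreservesFiniteLimits L]
    (hε : ∀ M, Mono (adj.counit.app M)) (K : ℬ) {S : 𝒜} (m : S ⟶ L.obj K) [Mono m] :
    ∃ l : S ⟶ L.obj (R.obj S), l ≫ adj.counit.app S = 𝟙 S := by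
  haveI := isIso_counit_app_obj adj hε K
  haveI : R.IsRightAdjoint := adj.isRightAdjoint
  haveI : L.IsLeftAdjoint := adj.isLeftAdjoint
  haveI : PreservesLimitsOfSize.{0, 0} R := adj.rightAdjoint_preservesLimits
  haveI : PreservesFiniteLimits R := PreservesLimitsOfSize.preservesFiniteLimits.{0, 0} _
  haveI : PreservesFiniteLimits (R ⋙ L) := comp_preservesFiniteLimits R L
  haveI : (R ⋙ L).PreservesZeroMorphisms := by
    haveI : R.PreservesZeroMorphisms := Functor.preservesZeroMorphisms_of_isRightAdjoint R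
    haveI : L.PreservesZeroMorphisms := Functor.preservesZeroMorphisms_of_isLeftAdjoint L
    infer_instance
  let q := cokernel.π m
  let S₀ : ShortComplex 𝒜 := ShortComplex.mk m q (cokernel.condition m)
  have hS₀ : S₀.Exact := ShortComplex.exact_of_g_is_cokernel S₀ (cokernelIsCokernel m)
  have hS₁ : (S₀.map (R ⋙ L)).Exact :=
    hS₀.map_of_mono_of_preservesKernel (R ⋙ L) (inferInstanceAs (Mono m)) inferInstance
  haveI : Mono (S₀.map (R ⋙ L)).f := inferInstanceAs (Mono ((R ⋙ L).map m))
  haveI := hε (cokernel m)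
  let e := asIso (adj.counit.app (L.obj K))
  have hn : (R ⋙ L).map q ≫ adj.counit.app (cokernel m) = e.hom ≫ q :=
    adj.counit.naturality q
  have hz : (m ≫ e.inv) ≫ (S₀.map (R ⋙ L)).g = 0 := by
    change (m ≫ e.inv) ≫ (R ⋙ L).map q = 0
    apply (cancel_mono (adj.counit.app (cokernel m))).mp
    rw [Category.assoc, Category.assoc, hn, e.inv_hom_id_assoc, zero_comp]
    exact cokernel.condition m
  let l : S ⟶ L.obj (R.obj S) := hS₁.lift (m ≫ e.inv) hz
  have hl : l ≫ (R ⋙ L).map m = m ≫ e.inv := hS₁.lift_f _ hz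
  refine ⟨l, ?_⟩
  apply (cancel_mono m).mp
  have hn' : adj.counit.app S ≫ m = (R ⋙ L).map m ≫ e.hom :=
    (adj.counit.naturality m).symm
  rw [Category.assoc, hn', ← Category.assoc, hl, Category.assoc, e.inv_hom_id]
  exact (Category.comp_id m).trans (Category.id_comp m).symm

include adj in
/-- **extension along subobjects of `L K`**: if `R F` is injective then morphisms to `F` extend
along monomorphisms into `L K`. -/
theorem exists_extension [PreservesFiniteLimits L]
    (hε : ∀ M, Mono (adj.counit.app M)) (K : ℬ) {S F : 𝒜} (m : S ⟶ L.obj K) [Mono m]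
    (φ : S ⟶ F) [Injective (R.obj F)] : ∃ ψ : L.obj K ⟶ F, m ≫ ψ = φ := by
  haveI := isIso_counit_app_obj adj hε K
  haveI : R.IsRightAdjoint := adj.isRightAdjoint
  haveI : PreservesLimitsOfSize.{0, 0} R := adj.rightAdjoint_preservesLimits
  haveI : PreservesFiniteLimits R := PreservesLimitsOfSize.preservesFiniteLimits.{0, 0} _
  haveI : Mono (R.map m) := inferInstance
  obtain ⟨l, hl⟩ := isSplitEpi_counit_of_mono adj hε K m
  let ψ' : R.obj (L.obj K) ⟶ R.obj F := Injective.factorThru (R.map φ) (R.map m)
  have hψ' : R.map m ≫ ψ' = R.map φ := Injective.comp_factorThru _ _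
  refine ⟨L.map (adj.unit.app K ≫ ψ') ≫ adj.counit.app F, ?_⟩
  -- it suffices to check after precomposing with the (split epi) counit
  have key : adj.counit.app S ≫ (m ≫ L.map (adj.unit.app K ≫ ψ') ≫ adj.counit.app F) =
      adj.counit.app S ≫ φ := by
    have h1 : adj.counit.app S ≫ m = L.map (R.map m) ≫ adj.counit.app (L.obj K) :=
      (adj.counit.naturality m).symm
    have h2 : adj.counit.app (L.obj K) ≫ L.map (adj.unit.app K) = 𝟙 _ := by
      rw [← cancel_mono (adj.counit.app (L.obj K)), Category.assoc,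
        adj.left_triangle_components]
      exact (Category.comp_id _).trans (Category.id_comp _).symm
    have h3 : adj.counit.app S ≫ φ = L.map (R.map φ) ≫ adj.counit.app F :=
      (adj.counit.naturality φ).symm
    rw [← Category.assoc, h1, Category.assoc, L.map_comp, ← Category.assoc (adj.counit.app _),
      ← Category.assoc (adj.counit.app _), h2, Category.id_comp, ← Category.assoc, ← L.map_comp,
      hψ', h3]
  calc m ≫ L.map (adj.unit.app K ≫ ψ') ≫ adj.counit.app F
      = (l ≫ adj.counit.app S) ≫ (m ≫ L.map (adj.unit.app K ≫ ψ') ≫ adj.counit.app F) := by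
        rw [hl, Category.id_comp]
    _ = l ≫ adj.counit.app S ≫ φ := by rw [Category.assoc, key]
    _ = φ := by rw [← Category.assoc, hl, Category.id_comp]

end Groth.Agent.LD.Baer
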