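import Groth.Agent.Lib.Lead.Baer.Family
import Groth.Agent.Lib.Lead.SC.Basic
import Groth.Prelude.Def_CohCx

/-! # Baer criterion for abelian sheaves on a small site. -/

universe u

namespace Groth.Agent.LD.Baer

open CategoryTheory Category Limits Opposite

variable {C : Type u} [SmallCategory C] (J : GrothendieckTopology C)

lemma isIso_of_lifts {A B : Sheaf J AddCommGrpCat.{u}} (p : A ⟶ B) [Mono p]
    (h : ∀ (X : C) (f : SC.ZU J X ⟶ B), ∃ a : SC.ZU J X ⟶ A, a ≫ p = f) : IsIso p := by
  haveI : Epi p := by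
    apply (Sheaf.isLocallySurjective_iff_epi' (φ := p)).mp
    apply Presheaf.isLocallySurjective_of_surjective
    intro X s
    obtain ⟨a, ha⟩ := h X.unop ((SC.homEquiv X.unop B).symm s)
    refine ⟨SC.homEquiv X.unop A a, ?_⟩
    have := SC.homEquiv_comp X.unop a p
    rw [ha, Equiv.apply_symm_apply] at this
    exact this.symm
  exact isIso_of_mono_of_epi p

theorem injective_of_baer [Nonempty C] (I : Sheaf J AddCommGrpCat.{u})
    (h : ∀ (X : C) (S : Sheaf J AddCommGrpCat.{u}) (i : S ⟶ CohCx.freeSheaf J X) [Mono i]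
      (φ : S ⟶ I), ∃ ψ : CohCx.freeSheaf J X ⟶ I, i ≫ ψ = φ) :
    Injective I := by
  haveI : IsGrothendieckAbelian.{u} (Sheaf J AddCommGrpCat.{u}) :=
    Sheaf.isGrothendieckAbelian_of_essentiallySmall _ _
  exact injective_of_extends.{u} (fun X : C => SC.ZU J X)
    (fun p _ hp => isIso_of_lifts J p hp) I h

end Groth.Agent.LD.Baer
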